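import Cfsg.Agent.Lib.KnownB.J4Mult.Main
import Cfsg.Agent.Lib.Spor.J4.M24Iso

/-!
The group presented by the seven relations is M₂₄ and words in it are decided by permutations.
-/

set_option autoImplicit false

namespace CfsgLib.KnownB.J4Mult

open Cfsg Subgroup CfsgLib.Spor CfsgLib.Spor.J4

theorem mRels : M24Rels (PresentedGroup.of (rels := rels7) false) (PresentedGroup.of true) :=
  ⟨rels7_of.r1, rels7_of.r2, rels7_of.r3, rels7_of.r4, rels7_of.r5, rels7_of.r6, rels7_of.r7⟩

/-- the map onto the presented group -/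
noncomputable def toM : Cfsg.M24 →* M := M24Iso.toHom mRels

theorem toM_surjective : Function.Surjective toM := by
  rw [← MonoidHom.range_eq_top, toM, M24Iso.range_toHom, eq_top_iff,
    ← PresentedGroup.closure_range_of rels7, Subgroup.closure_le]
  rintro _ ⟨i, rfl⟩
  cases i
  · exact Subgroup.subset_closure (Or.inl rfl)
  · exact Subgroup.subset_closure (Or.inr rfl)

theorem toM_injective : Function.Injective toM := by
  let f : Bool → Cfsg.M24 := fun q => if q then M24Iso.gb else M24Iso.ga
  have hr : ∀ r ∈ rels7, FreeGroup.lift f r = 1 := by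
    intro r hr
    simp only [rels7, Set.mem_insert_iff, Set.mem_singleton_iff] at hr
    rcases hr with rfl | rfl | rfl | rfl | rfl | rfl | rfl <;>
      simp only [map_mul, map_pow, map_inv, FreeGroup.lift_apply_of, f, Bool.false_eq_true, if_false, if_true]
    exacts [M24Iso.gRels.sq, M24Iso.gRels.cube, M24Iso.gRels.r23, M24Iso.gRels.c12, M24Iso.gRels.c5,
      M24Iso.gRels.p4, M24Iso.gRels.q33]
  have hid : ((PresentedGroup.toGroup hr).comp toM) = MonoidHom.id _ := by
    refine MonoidHom.eq_of_eqOn_dense M24Iso.gen_top ?_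
    rintro _ (rfl | rfl)
    · simp [toM, M24Iso.toHom_ga, PresentedGroup.toGroup.of, f]
    · simp [toM, M24Iso.toHom_gb, PresentedGroup.toGroup.of, f]
  intro g h e
  have := congrArg (PresentedGroup.toGroup hr) e
  rw [← MonoidHom.comp_apply, hid, ← MonoidHom.comp_apply, hid] at this
  exact this

theorem finite_M : Finite M := Finite.of_surjective toM toM_surjective

theorem multiplier_M : Cfsg.HasCyclicSchurMultiplier M 1 := by
  obtain ⟨⟨Γ₀, _, _, σ₀, hσ₀, he⟩, hall⟩ := Cfsg.Agent.S2038.result
  let e := MulEquiv.ofBijective toM ⟨toM_injective, toM_surjective⟩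
  have key : ∀ {Γ : Type} [Group Γ] {A B : Type} [Group A] [Group B] (e : A ≃* B) (σ : Γ →* A),
      Cfsg.IsStemExtension σ → Cfsg.IsStemExtension (e.toMonoidHom.comp σ) ∧
        (e.toMonoidHom.comp σ).ker = σ.ker := fun {Γ} _ {A B} _ _ e σ h => by
    have hk : (e.toMonoidHom.comp σ).ker = σ.ker := by
      ext x; simp [MonoidHom.mem_ker]
    exact ⟨⟨e.surjective.comp h.1, hk ▸ h.2.1, hk ▸ h.2.2⟩, hk⟩
  obtain ⟨h0, hk0⟩ := key e σ₀ hσ₀
  refine ⟨⟨Γ₀, inferInstance, inferInstance, e.toMonoidHom.comp σ₀, h0, by rw [hk0]; exact he⟩,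
    fun Γ _ _ σ hσ => ?_⟩
  obtain ⟨h1, hk1⟩ := key e.symm σ hσ
  rw [← hk1]
  exact hall Γ _ h1

/-- The value of a letter. -/
def gl (q : Bool) : Cfsg.M24 := if q then M24Iso.gb else M24Iso.ga

theorem ev_toM (w : List Bool) :
    toM (w.map gl).prod = ev (PresentedGroup.of (rels := rels7) false) (PresentedGroup.of true) w := by
  induction w with
  | nil => simp [ev]
  | cons q w ih =>
    rw [List.map_cons, List.prod_cons, map_mul, ih]
    cases q <;> simp [ev, gl, toM, M24Iso.toHom_ga, M24Iso.toHom_gb]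

/-- the position of a point in the numbering of `px` and `py` -/
def ix (p : GolayPt) : ℕ := [17, 1, 21, 22, 0, 3, 2, 20, 16, 6, 10, 7, 4, 12, 14, 9, 11, 18, 23, 13, 8, 5, 19, 15].getD (idx p) 0

/-- the point of a position in the numbering of `px` and `py` -/
def ptx (i : ℕ) : GolayPt := pt ([4, 1, 6, 5, 12, 21, 9, 11, 20, 15, 10, 16, 13, 19, 14, 23, 8, 0, 17, 22, 7, 2, 3, 18].getD i 0)

theorem ix_lt : ∀ p : GolayPt, ix p < 24 := by decide +kernel

theorem ptx_ix : ∀ p : GolayPt, ptx (ix p) = p := by decide +kernel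

theorem ix_ptx {i : ℕ} (h : i < 24) : ix (ptx i) = i := by
  revert h; revert i
  decide +kernel

theorem ix_injective : Function.Injective ix := fun p q h => by
  rw [← ptx_ix p, ← ptx_ix q, h]

theorem letter_idx : ∀ q : Bool, ∀ p : GolayPt,
    ix (((gl q : Cfsg.M24) : Equiv.Perm GolayPt)⁻¹ p) = (if q then py else px).getD (ix p) 0 := by
  decide +kernel

theorem foldl_getD : ∀ (w : List Bool) (r : List ℕ) (i : ℕ), i < r.length → r.getD i 0 < 24 →
    (w.foldl (fun r a => r.map fun i => (if a then py else px).getD i 0) r).getD i 0 =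
      ix ((((w.map gl).prod : Cfsg.M24) : Equiv.Perm GolayPt)⁻¹ (ptx (r.getD i 0)))
  | [], r, i, hi, hr => by
    rw [List.foldl_nil, List.map_nil, List.prod_nil, Subgroup.coe_one, inv_one, Equiv.Perm.one_apply, ix_ptx hr]
  | q :: w, r, i, hi, hr => by
    have e : (r.map fun i => (if q then py else px).getD i 0).getD i 0 =
        ix (((gl q : Cfsg.M24) : Equiv.Perm GolayPt)⁻¹ (ptx (r.getD i 0))) := by
      rw [letter_idx, ix_ptx hr]
      simp [List.getD_eq_getElem?_getD, hi]
    rw [List.foldl_cons, foldl_getD w _ i (by simpa using hi) (e ▸ ix_lt _), e, ptx_ix,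
      List.map_cons, List.prod_cons, Subgroup.coe_mul, mul_inv_rev, Equiv.Perm.mul_apply]

/-- Words with the same permutation are equal in the presented group. -/
theorem words_eq (u v : List Bool) (h : pl u = pl v) :
    ev (PresentedGroup.of (rels := rels7) false) (PresentedGroup.of true) u =
      ev (PresentedGroup.of false) (PresentedGroup.of true) v := by
  rw [← ev_toM, ← ev_toM]
  congr 1
  apply inv_injective
  refine Subtype.ext (Equiv.ext fun p => ix_injective ?_)
  have hp : (List.range 24).getD (ix p) 0 = ix p := by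
    simp [List.getD_eq_getElem?_getD, ix_lt p]
  have e := fun w => foldl_getD w (List.range 24) (ix p) (by simp [ix_lt p]) (by rw [hp]; exact ix_lt p)
  have := congrArg (fun l => l.getD (ix p) 0) h
  simp only [pl, e, hp, ptx_ix] at this
  exact this

/-- The multiplier is trivial, given finiteness. -/
theorem trivial_multiplier' [Finite Cfsg.Spor.J4] : Cfsg.HasCyclicSchurMultiplier Cfsg.Spor.J4 1 :=
  haveI := finite_M
  trivial_multiplier multiplier_M words_eq

end CfsgLib.KnownB.J4Mult
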