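import Cfsg.Prelude.Def_KGroupFacts
import Mathlib

/-!
Homomorphisms from a perfect group with trivial multiplier lift through central extensions.
-/

set_option autoImplicit false

universe u

namespace CfsgLib.KnownB.J4Mult

open Subgroup
open scoped commutatorElement

variable {Q G E : Type u} [Group Q] [Group G] [Group E]

/-- A homomorphism from a finite perfect group with trivial multiplier lifts through a finite central
extension. -/
theorem exists_lift [Finite Q] [Finite E] (hQ : commutator Q = ⊤)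
    (hm : Cfsg.HasCyclicSchurMultiplier Q 1) (σ : E →* G) (hs : Function.Surjective σ)
    (hc : σ.ker ≤ center E) (ψ : Q →* G) : ∃ φ : Q →* E, σ.comp φ = ψ := by
  let P : Subgroup (Q × E) :=
    { carrier := {p | ψ p.1 = σ p.2}
      one_mem' := by simp
      mul_mem' := fun {p q} hp hq => by
        simp only [Set.mem_setOf_eq, Prod.fst_mul, Prod.snd_mul, map_mul] at *
        rw [hp, hq]
      inv_mem' := fun {p} hp => by
        simp only [Set.mem_setOf_eq, Prod.fst_inv, Prod.snd_inv, map_inv] at *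
        rw [hp] }
  let π : P →* Q := (MonoidHom.fst Q E).comp P.subtype
  have hπs : Function.Surjective π := fun q => by
    obtain ⟨e, he⟩ := hs (ψ q)
    exact ⟨⟨(q, e), he.symm⟩, rfl⟩
  have hπc : π.ker ≤ center P := fun k hk => by
    have h1 : k.1.1 = 1 := hk
    have h2 : σ k.1.2 = 1 := by
      have := k.2; change ψ k.1.1 = σ k.1.2 at this
      rw [← this, h1, map_one]
    refine Subgroup.mem_center_iff.2 fun g => Subtype.ext (Prod.ext ?_ ?_)
    · show g.1.1 * k.1.1 = k.1.1 * g.1.1
      rw [h1, mul_one, one_mul]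
    · exact Subgroup.mem_center_iff.1 (hc (MonoidHom.mem_ker.2 h2)) g.1.2
  let D : Subgroup P := commutator P
  have hmap : D.map π = ⊤ := by
    show (commutator P).map π = ⊤
    rw [commutator_def, Subgroup.map_commutator, Subgroup.map_top_of_surjective π hπs, ← commutator_def, hQ]
  let τ : D →* Q := π.comp D.subtype
  have hτs : Function.Surjective τ := fun q => by
    obtain ⟨d, hd, hdq⟩ := hmap.symm ▸ Subgroup.mem_top q
    exact ⟨⟨d, hd⟩, hdq⟩
  have hfac : ∀ g : P, ∃ d ∈ D, ∃ k ∈ center P, g = d * k := fun g => by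
    obtain ⟨d, hd⟩ := hτs (π g)
    refine ⟨d.1, d.2, d.1⁻¹ * g, hπc (MonoidHom.mem_ker.2 ?_), (mul_inv_cancel_left _ _).symm⟩
    change π d.1 = π g at hd
    rw [map_mul, map_inv, hd, inv_mul_cancel]
  have hperf : ⁅D, D⁆ = D := by
    refine le_antisymm (Subgroup.commutator_le.2 fun a ha b hb => ?_) ?_
    · exact Subgroup.commutator_mem_commutator (Subgroup.mem_top a) (Subgroup.mem_top b)
    · show commutator P ≤ _
      rw [commutator_def, Subgroup.commutator_le]
      intro g _ h _
      obtain ⟨a, ha, k, hk, rfl⟩ := hfac g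
      obtain ⟨b, hb, l, hl, rfl⟩ := hfac h
      have e : ⁅a * k, b * l⁆ = ⁅a, b⁆ := by
        have hk' := fun x : P => Subgroup.mem_center_iff.1 hk x
        have hl' := fun x : P => Subgroup.mem_center_iff.1 hl x
        rw [commutatorElement_def, commutatorElement_def]
        calc a * k * (b * l) * (a * k)⁻¹ * (b * l)⁻¹
            = a * (k * (b * l)) * (k⁻¹ * a⁻¹) * (l⁻¹ * b⁻¹) := by group
          _ = a * ((b * l) * k) * (k⁻¹ * a⁻¹) * (l⁻¹ * b⁻¹) := by rw [← hk']
          _ = a * b * (l * a⁻¹) * (l⁻¹ * b⁻¹) := by group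
          _ = a * b * (a⁻¹ * l) * (l⁻¹ * b⁻¹) := by rw [hl' a⁻¹]
          _ = a * b * a⁻¹ * b⁻¹ := by group
      rw [e]
      exact Subgroup.commutator_mem_commutator ha hb
  have hD : commutator D = ⊤ := by
    apply Subgroup.map_injective D.subtype_injective
    rw [commutator_def, Subgroup.map_commutator, ← MonoidHom.range_eq_map, Subgroup.range_subtype, hperf]
  have hτc : τ.ker ≤ center D := fun k hk =>
    Subgroup.mem_center_iff.2 fun g => Subtype.ext
      (Subgroup.mem_center_iff.1 (hπc (MonoidHom.mem_ker.2 hk)) g.1)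
  obtain ⟨f, hf⟩ := hm.2 D τ ⟨hτs, hτc, hD ▸ le_top⟩
  have hinj : Function.Injective τ := by
    rw [injective_iff_map_eq_one]
    intro d hd
    obtain ⟨a, ha⟩ := hf ⟨d, MonoidHom.mem_ker.2 hd⟩
    obtain ⟨b, hb⟩ := hf 1
    have hab : a = b := Subsingleton.elim (α := ZMod 1) a b
    rw [hab, hb] at ha
    exact congrArg Subtype.val ha.symm
  let e := MulEquiv.ofBijective τ ⟨hinj, hτs⟩
  refine ⟨((MonoidHom.snd Q E).comp (P.subtype.comp D.subtype)).comp e.symm.toMonoidHom,
    MonoidHom.ext fun q => ?_⟩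
  have h1 := (e.symm q).1.2
  change ψ (τ (e.symm q)) = σ (e.symm q).1.1.2 at h1
  rw [show τ (e.symm q) = q from e.apply_symm_apply q] at h1
  exact h1.symm

end CfsgLib.KnownB.J4Mult
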