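import Cfsg.Agent.Lib.KnownB.J4Mult.Cert
import Cfsg.Agent.Lib.KnownB.J4Mult.Lifting
import Cfsg.Prelude.Def_Spor_J4

/-!
Stem extensions of the presented fourth Janko group are trivial, given that the seven relations on
`x` and `y` present a group in which words are equal when their permutations are.
-/

set_option autoImplicit false
set_option maxHeartbeats 1000000

namespace CfsgLib.KnownB.J4Mult

open Cfsg Cfsg.Spor Subgroup

/-- the seven relations on two elements -/
structure Rels7 {E : Type*} [Group E] (x y : E) : Prop where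
  r1 : x ^ 2 = 1
  r2 : y ^ 3 = 1
  r3 : (x * y) ^ 23 = 1
  r4 : (x⁻¹ * y⁻¹ * x * y) ^ 12 = 1
  r5 : (x⁻¹ * (y * x * y)⁻¹ * x * (y * x * y)) ^ 5 = 1
  r6 : (x * y * ((x * y * x * y⁻¹) ^ 3)) ^ 4 = 1
  r7 : ((x * y * x * y * x * y⁻¹) ^ 3) * ((x * y * x * y⁻¹ * x * y⁻¹) ^ 3) = 1

/-- the seven relators -/
def rels7 : Set (FreeGroup Bool) :=
  let x := FreeGroup.of false
  let y := FreeGroup.of true
  {x ^ 2, y ^ 3, (x * y) ^ 23, (x⁻¹ * y⁻¹ * x * y) ^ 12,
    (x⁻¹ * (y * x * y)⁻¹ * x * (y * x * y)) ^ 5, (x * y * ((x * y * x * y⁻¹) ^ 3)) ^ 4,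
    ((x * y * x * y * x * y⁻¹) ^ 3) * ((x * y * x * y⁻¹ * x * y⁻¹) ^ 3)}

/-- the group presented by the seven relators -/
abbrev M : Type := PresentedGroup rels7

theorem rels7_of : Rels7 (PresentedGroup.of (rels := rels7) false) (PresentedGroup.of true) := by
  have h := fun (r : FreeGroup Bool) (hr : r ∈ rels7) => PresentedGroup.one_of_mem (rels := rels7) hr
  simp only [rels7, Set.mem_insert_iff, Set.mem_singleton_iff, forall_eq_or_imp, forall_eq, map_mul, map_pow,
    map_inv] at h
  exact ⟨h.1, h.2.1, h.2.2.1, h.2.2.2.1, h.2.2.2.2.1, h.2.2.2.2.2.1, h.2.2.2.2.2.2⟩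

theorem perfect_M : commutator M = ⊤ := by
  have R := rels7_of
  have hq : ∀ {A : Type} [CommGroup A] (f : M →* A), f = 1 := by
    intro A _ f
    have h1 := congrArg f R.r1
    have h2 := congrArg f R.r2
    have h3 := congrArg f R.r3
    simp only [map_mul, map_pow, map_one] at h1 h2 h3
    set a := f (PresentedGroup.of false)
    set b := f (PresentedGroup.of true)
    have e1 : a ^ 23 = a := by rw [show (23 : ℕ) = 2 * 11 + 1 from rfl, pow_succ, pow_mul, h1, one_pow, one_mul]
    have e2 : b ^ 23 = b ^ 2 := by rw [show (23 : ℕ) = 3 * 7 + 2 from rfl, pow_add, pow_mul, h2, one_pow, one_mul]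
    rw [mul_pow, e1, e2] at h3
    have e3 : a = b := by
      calc a = a * (b ^ 3) := by rw [h2, mul_one]
        _ = a * b ^ 2 * b := by rw [pow_succ b 2, mul_assoc]
        _ = b := by rw [h3, one_mul]
    rw [e3] at h1
    have eb : b = 1 := by
      calc b = b ^ 3 * (b ^ 2)⁻¹ := by rw [pow_succ' b 2, mul_assoc, mul_inv_cancel, mul_one]
        _ = 1 := by rw [h1, h2, inv_one, mul_one]
    refine PresentedGroup.ext fun g => ?_
    cases g
    · exact e3.trans eb
    · exact eb
  rw [eq_top_iff]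
  intro g _
  have : Abelianization.of g = (1 : Abelianization M) := by rw [hq Abelianization.of]; rfl
  exact (QuotientGroup.eq_one_iff g).1 this

/-- the relators of the presentation -/
abbrev rels : Set (FreeGroup J4.Gen) := coxRelators J4.edges ∪ {r | r ∈ J4.extra}

/-- a generator -/
def gn (g : J4.Gen) : Cfsg.Spor.J4 := PresentedGroup.of g

theorem rel_one {r : FreeGroup J4.Gen} (h : r ∈ J4.extra) : FreeGroup.lift gn r = 1 := by
  have e : FreeGroup.lift gn = PresentedGroup.mk rels := FreeGroup.ext_hom _ _ fun g => by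
    rw [FreeGroup.lift_apply_of]; rfl
  rw [e]
  exact PresentedGroup.one_of_mem (Or.inr h)

/-- the five relations involving `t` -/
structure RelsT {E : Type*} [Group E] (x y t : E) : Prop where
  r8 : t ^ 2 = 1
  r9 : t⁻¹ * (y * x * y * ((x * y⁻¹) ^ 2) * ((x * y) ^ 3))⁻¹ * t *
    (y * x * y * ((x * y⁻¹) ^ 2) * ((x * y) ^ 3)) = 1
  r10 : t⁻¹ * x⁻¹ * t * x = 1
  r11 : (y * ((y * x * y⁻¹ * x * y * x * y⁻¹ * x)⁻¹ * t * (y * x * y⁻¹ * x * y * x * y⁻¹ * x))) ^ 3 = 1
  r12 : (((y * x * y * x * y * x * y) ^ 3) * t * ((((x * y) ^ 3) * y * ((x * y) ^ 6) * y)⁻¹ * t *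
    (((x * y) ^ 3) * y * ((x * y) ^ 6) * y))) ^ 2 = 1

theorem rels_gn : Rels7 (gn .x) (gn .y) ∧ RelsT (gn .x) (gn .y) (gn .t) := by
  have h := fun (r : FreeGroup J4.Gen) (hr : r ∈ J4.extra) => rel_one hr
  simp only [J4.extra, List.forall_mem_cons, List.not_mem_nil, false_imp_iff, forall_const, and_true,
    J4.x, J4.y, J4.t, map_mul, map_pow, map_inv, FreeGroup.lift_apply_of] at h
  obtain ⟨h1, h2, h3, h4, h5, h6, h7, h8, h9, h10, h11, h12⟩ := h
  exact ⟨⟨h1, h2, h3, h4, h5, h6, h7⟩, ⟨h8, h9, h10, h11, h12⟩⟩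

theorem exists_hom {P : Type*} [Group P] {a b c : P} (h : Rels7 a b) (k : RelsT a b c) :
    ∃ τ : Cfsg.Spor.J4 →* P, τ (gn .x) = a ∧ τ (gn .y) = b ∧ τ (gn .t) = c := by
  let f : J4.Gen → P := fun g => match g with | .x => a | .y => b | .t => c
  have hr : ∀ r ∈ rels, FreeGroup.lift f r = 1 := by
    rintro r (⟨x, hx, -⟩ | hr)
    · simp [J4.edges, coxNodes] at hx
    · simp only [J4.extra, Set.mem_setOf_eq, List.mem_cons, List.not_mem_nil, or_false] at hr
      rcases hr with rfl | rfl | rfl | rfl | rfl | rfl | rfl | rfl | rfl | rfl | rfl | rfl <;>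
        simp only [J4.x, J4.y, J4.t, map_mul, map_pow, map_inv, FreeGroup.lift_apply_of, f]
      exacts [h.r1, h.r2, h.r3, h.r4, h.r5, h.r6, h.r7, k.r8, k.r9, k.r10, k.r11, k.r12]
  exact ⟨PresentedGroup.toGroup hr, PresentedGroup.toGroup.of hr, PresentedGroup.toGroup.of hr,
    PresentedGroup.toGroup.of hr⟩

section words

variable {E : Type*} [Group E] (x y : E)

theorem ev_c (hy : y ^ 3 = 1) : ev x y (uexp [true]) = y * x * y * ((x * y⁻¹) ^ 2) * ((x * y) ^ 3) := by
  have e : y⁻¹ = y * y := inv_eq_of_mul_eq_one_right (by rw [← hy, pow_three])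
  rw [e]; simp [ev, uexp, pow_two, pow_three, mul_assoc]

theorem ev_g (hy : y ^ 3 = 1) : ev x y gW = y * x * y⁻¹ * x * y * x * y⁻¹ * x := by
  have e : y⁻¹ = y * y := inv_eq_of_mul_eq_one_right (by rw [← hy, pow_three])
  rw [e]; simp [ev, gW, mul_assoc]

theorem ev_aW : ev x y aW = (y * x * y * x * y * x * y) ^ 3 := by
  simp [ev, aW, pow_three, mul_assoc]

theorem ev_hW : ev x y hW = ((x * y) ^ 3) * y * ((x * y) ^ 6) * y := by
  rw [show (x * y) ^ 6 = (x * y) ^ 3 * (x * y) ^ 3 by rw [← pow_add]]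
  simp [ev, hW, pow_three, mul_assoc]

end words

variable {Γ : Type} [Group Γ]

theorem map_ev {E F : Type*} [Group E] [Group F] (f : E →* F) (a b : E) (w : List Bool) :
    f (ev a b w) = ev (f a) (f b) w := by
  induction w with
  | nil => simp [ev]
  | cons q w ih =>
    rw [show q :: w = [q] ++ w from rfl, ev_append, ev_append, map_mul, ih]
    cases q <;> simp [ev]

theorem t_u_two {a b t e f : Γ} (he : ∀ g, Commute g e) (hf : ∀ g, Commute g f)
    (ha : t * a = a * t * e) (hc : t * ev a b (uexp [true]) = ev a b (uexp [true]) * t * f) :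
    ∀ u : List Bool, t * ev a b (uexp u) = ev a b (uexp u) * t * (e ^ u.count false * f ^ u.count true)
  | [] => by simp [uexp, ev]
  | q :: u => by
    have ih := t_u_two he hf ha hc u
    have e1 : uexp (q :: u) = uexp [q] ++ uexp u := by simp [uexp]
    rw [e1, ev_append, ← mul_assoc]
    cases q
    · have hq : t * ev a b (uexp [false]) = ev a b (uexp [false]) * t * e := by simpa [uexp, ev] using ha
      rw [hq, mul_assoc _ e, ← (he _).eq, ← mul_assoc, mul_assoc (ev a b (uexp [false])) t, ih,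
        List.count_cons_self, List.count_cons_of_ne (by decide), pow_succ']
      simp only [mul_assoc]
      congr 3
      rw [← mul_assoc]
      exact (he _).eq
    · rw [hc, mul_assoc _ f, ← (hf _).eq, ← mul_assoc, mul_assoc (ev a b (uexp [true])) t, ih,
        List.count_cons_self, List.count_cons_of_ne (by decide), pow_succ]
      simp only [mul_assoc]

/-- Stem extensions are trivial. -/
theorem ker_eq_bot [Finite Γ] [Finite M] (hM : Cfsg.HasCyclicSchurMultiplier M 1)
    (hev : ∀ u v : List Bool, pl u = pl v →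
      ev (PresentedGroup.of (rels := rels7) false) (PresentedGroup.of true) u =
        ev (PresentedGroup.of false) (PresentedGroup.of true) v)
    (σ : Γ →* Cfsg.Spor.J4) (hσ : Cfsg.IsStemExtension σ) : σ.ker = ⊥ := by
  obtain ⟨hs, hc, hd⟩ := hσ
  obtain ⟨R, T⟩ := rels_gn
  let q : Bool → Cfsg.Spor.J4 := fun i => if i then gn .y else gn .x
  have hq : ∀ r ∈ rels7, FreeGroup.lift q r = 1 := by
    intro r hr
    simp only [rels7, Set.mem_insert_iff, Set.mem_singleton_iff] at hr
    rcases hr with rfl | rfl | rfl | rfl | rfl | rfl | rfl <;>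
      simp only [map_mul, map_pow, map_inv, FreeGroup.lift_apply_of, q, Bool.false_eq_true, if_false, if_true]
    exacts [R.r1, R.r2, R.r3, R.r4, R.r5, R.r6, R.r7]
  obtain ⟨φ, hφ⟩ := exists_lift perfect_M hM σ hs hc (PresentedGroup.toGroup hq)
  set a := φ (PresentedGroup.of false) with ha_def
  set b := φ (PresentedGroup.of true) with hb_def
  have sa : σ a = gn .x := by
    rw [ha_def, ← MonoidHom.comp_apply, hφ, PresentedGroup.toGroup.of]; rfl
  have sb : σ b = gn .y := by
    rw [hb_def, ← MonoidHom.comp_apply, hφ, PresentedGroup.toGroup.of]; rfl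
  have S : Rels7 a b := by
    have h := rels7_of
    constructor
    · simpa [ha_def, hb_def] using congrArg φ h.r1
    · simpa [ha_def, hb_def] using congrArg φ h.r2
    · simpa [ha_def, hb_def] using congrArg φ h.r3
    · simpa [ha_def, hb_def] using congrArg φ h.r4
    · simpa [ha_def, hb_def] using congrArg φ h.r5
    · simpa [ha_def, hb_def] using congrArg φ h.r6
    · simpa [ha_def, hb_def] using congrArg φ h.r7
  have H : ∀ u v : List Bool, pl u = pl v → ev a b u = ev a b v := fun u v h => by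
    rw [ha_def, hb_def, ← map_ev, ← map_ev, hev u v h]
  have cen : ∀ {k : Γ}, σ k = 1 → ∀ g, Commute g k := fun {k} hk g =>
    Subgroup.mem_center_iff.1 (hc (MonoidHom.mem_ker.2 hk)) g
  obtain ⟨t0, st0⟩ := hs (gn .t)
  have hb3 : b ^ 3 = 1 := S.r2
  have sev : ∀ w, σ (ev a b w) = ev (gn .x) (gn .y) w := fun w => by rw [map_ev, sa, sb]
  -- the error terms
  set C := ev a b (uexp [true]) with hC
  set e := (a * t0)⁻¹ * (t0 * a) with he_def
  set f := (C * t0)⁻¹ * (t0 * C) with hf_def
  have het : t0 * a = a * t0 * e := by rw [he_def]; group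
  have hft : t0 * C = C * t0 * f := by rw [hf_def]; group
  have se1 : σ e = 1 := by
    rw [he_def]; simp only [map_mul, map_inv, sa, st0, mul_inv_rev]
    have := T.r10
    simp only [mul_assoc] at this ⊢
    exact this
  have sf1 : σ f = 1 := by
    rw [he_def] at *
    rw [hf_def]; simp only [map_mul, map_inv, hC, sev, ev_c _ _ R.r2, st0, mul_inv_rev]
    have := T.r9
    simp only [mul_assoc, mul_inv_rev] at this ⊢
    exact this
  have he := cen se1
  have hf := cen sf1
  have he2 : e * e = 1 := by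
    have h := t_u_two he hf het hft [false, false]
    have haa : ev a b (uexp [false, false]) = 1 := by
      rw [H _ [] (by decide +kernel), ev_nil]
    rw [haa] at h
    simpa [pow_two] using h
  have hf4 : f ^ 4 = 1 := by
    have h := t_u_two he hf het hft [true, true, true, true]
    rw [H _ [] (by decide +kernel), ev_nil] at h
    simpa using h
  have hef : f = e := by
    have h := t_u_two he hf het hft loopU
    rw [H _ [] (show pl (uexp loopU) = pl [] by decide +kernel), ev_nil, one_mul, mul_one] at h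
    have hn : ∃ i j, loopU.count false = 2 * i + 1 ∧ loopU.count true = 2 * j + 1 :=
      ⟨loopU.count false / 2, loopU.count true / 2, by decide +kernel, by decide +kernel⟩
    obtain ⟨i, j, hi, hj⟩ := hn
    have h1 : e * f ^ (2 * j + 1) = 1 := by
      have h' : t0 * 1 = t0 * (e ^ loopU.count false * f ^ loopU.count true) := by rw [mul_one]; exact h
      rw [hi, hj, pow_succ, pow_mul, pow_two, he2, one_pow, one_mul] at h'
      exact (mul_left_cancel h').symm
    have hf2 : f ^ 2 = 1 := by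
      have h2 : (f ^ (2 * j + 1)) ^ 2 = 1 := by
        rw [eq_inv_of_mul_eq_one_right h1, inv_pow, pow_two, he2, inv_one]
      have h4 : ((f ^ 4) ^ j) * f ^ 2 = 1 := by
        rw [← pow_mul, ← pow_add]; rw [← pow_mul] at h2
        rw [show 4 * j + 2 = (2 * j + 1) * 2 by ring]; exact h2
      rwa [hf4, one_pow, one_mul] at h4
    rw [pow_succ, pow_mul, hf2, one_pow, one_mul] at h1
    rw [eq_inv_of_mul_eq_one_right h1, inv_eq_of_mul_eq_one_right he2]
  rw [hef] at hft hf
  set z := t0 * t0 with hz_def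
  have sz : σ z = 1 := by rw [hz_def, map_mul, st0, ← pow_two]; exact T.r8
  set g := ev a b gW with hg_def
  set s0 := g⁻¹ * t0 * g with hs0
  set d := (b * s0) ^ 3 with hd_def
  have sd1 : σ d = 1 := by
    rw [hd_def, hs0, map_pow, map_mul, map_mul, map_mul, map_inv, sb, st0, hg_def, sev, ev_g _ _ R.r2]
    exact T.r11
  have hz := cen sz
  have hd3 := cen sd1
  have hzd : z ^ 3 = d * d := by
    set U := ev a b (uexp invU) with hU_def
    have hU : t0 * U = U * t0 := by
      have h := t_u_two he hf het hft invU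
      have hl : ∃ i, invU.count false + invU.count true = 2 * i :=
        ⟨(invU.count false + invU.count true) / 2, by decide +kernel⟩
      obtain ⟨i, hi⟩ := hl
      rwa [← pow_add, hi, pow_mul, pow_two, he2, one_pow, mul_one] at h
    set v := g⁻¹ * U * g with hv
    have hvs : v * s0 * v⁻¹ = s0 := by
      rw [hv, hs0, show g⁻¹ * U * g * (g⁻¹ * t0 * g) * (g⁻¹ * U * g)⁻¹ = g⁻¹ * (U * t0) * U⁻¹ * g by group,
        ← hU]
      group
    have hb3' : b * (b * b) = 1 := by rw [← pow_three]; exact hb3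
    have ha2 : a * a = 1 := by rw [← pow_two]; exact S.r1
    have hvb : v * b * v⁻¹ = b⁻¹ := by
      have h := H ((invW gW ++ uexp invU ++ gW) ++ [true] ++ invW (invW gW ++ uexp invU ++ gW))
        [true, true] (by decide +kernel)
      have e1 : ev a b [true] = b := by simp [ev]
      have e2 : ev a b [true, true] = b * b := by simp [ev]
      simp only [ev_append, ev_invW_of a b ha2 hb3', e1, e2, mul_inv_rev, inv_inv] at h
      rw [inv_eq_of_mul_eq_one_right hb3', ← h, hv, hg_def, hU_def]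
      simp only [mul_inv_rev, inv_inv, mul_assoc]
    have hs0z : s0 * s0 = z := by
      rw [hs0, show g⁻¹ * t0 * g * (g⁻¹ * t0 * g) = g⁻¹ * (t0 * t0) * g by group, ← hz_def,
        mul_assoc, ← (hz g).eq, inv_mul_cancel_left]
    have h1 : (b⁻¹ * s0) ^ 3 = d := by
      have := (hd3 v).eq
      calc (b⁻¹ * s0) ^ 3 = (v * b * v⁻¹ * (v * s0 * v⁻¹)) ^ 3 := by rw [hvb, hvs]
        _ = v * d * v⁻¹ := by rw [hd_def]; simp only [pow_three]; group
        _ = d := by rw [this, mul_inv_cancel_right]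
    have h2 : (s0 * b) ^ 3 = d := by
      calc (s0 * b) ^ 3 = s0 * d * s0⁻¹ := by rw [hd_def]; simp only [pow_three]; group
        _ = d := by rw [(hd3 s0).eq, mul_inv_cancel_right]
    have h3 : s0 = s0⁻¹ * z := by rw [← hs0z, inv_mul_cancel_left]
    have h4 : (b⁻¹ * s0) ^ 3 = ((s0 * b) ^ 3)⁻¹ * z ^ 3 := by
      have hb' : b⁻¹ * s0 = (s0 * b)⁻¹ * z := by
        rw [mul_inv_rev, mul_assoc, ← h3]
      rw [hb', (hz _).mul_pow, inv_pow]
    rw [h1, h2] at h4
    calc z ^ 3 = d * (d⁻¹ * z ^ 3) := (mul_inv_cancel_left _ _).symm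
      _ = d * d := by rw [← h4]
  -- normalise the lift of `t`
  set w := z * d⁻¹ with hw_def
  have hw : ∀ x, Commute x w := fun x => (hz x).mul_right (hd3 x).inv_right
  have hdz : Commute z d⁻¹ := (hd3 z).inv_right
  have hzw : z * w ^ 2 = 1 := by
    calc z * w ^ 2 = z ^ 3 * (d⁻¹ * d⁻¹) := by
          rw [hw_def, hdz.mul_pow, ← mul_assoc, ← pow_succ' z 2, pow_two]
      _ = 1 := by rw [hzd, ← mul_inv_rev, mul_inv_cancel]
  have hdw : d * w ^ 3 = 1 := by
    calc d * w ^ 3 = d * (z ^ 3 * d⁻¹ ^ 3) := by rw [hw_def, hdz.mul_pow]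
      _ = 1 := by rw [hzd, pow_three]; group
  set t := t0 * w with ht_def
  have ht2 : t * t = 1 := by
    have hc0 : Commute t0 w := hw t0
    rw [ht_def, ← pow_two, hc0.mul_pow, pow_two t0, ← hz_def]
    exact hzw
  have hta : t * a = a * t * e := by
    rw [ht_def, mul_assoc t0 w a, ← (hw a).eq, ← mul_assoc, het, mul_assoc, (he w).symm.eq]
    simp only [mul_assoc]
  have htc : t * C = C * t * e := by
    rw [ht_def, mul_assoc t0 w C, ← (hw C).eq, ← mul_assoc, hft, mul_assoc, (he w).symm.eq]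
    simp only [mul_assoc]
  have hcube : (b * (g⁻¹ * t * g)) ^ 3 = 1 := by
    have e1 : b * (g⁻¹ * t * g) = b * s0 * w := by
      rw [ht_def, hs0, mul_assoc b, mul_assoc _ g w, (hw g).eq]
      simp only [mul_assoc]
    rw [e1, (hw _).mul_pow, ← hd_def]
    exact hdw
  have sw : σ w = 1 := by rw [hw_def, map_mul, map_inv, sz, sd1, inv_one, mul_one]
  have st : σ t = gn .t := by rw [ht_def, map_mul, st0, sw, mul_one]
  set p := (ev a b aW * t * ((ev a b hW)⁻¹ * t * ev a b hW)) ^ 2 with hp_def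
  have sp1 : σ p = 1 := by
    rw [hp_def]
    simp only [map_pow, map_mul, map_inv, st, ev_aW, ev_hW, sa, sb]
    exact T.r12
  let L : Lift Γ :=
    { a := a, b := b, t := t, se := e, sp := p, hev := H, ht2 := ht2, hse := he, hsp := cen sp1
      hse2 := he2, hta := hta, htc := htc, hcube := hcube, hquad := rfl }
  have cA : p ^ 2 = 1 := by simpa [L] using L.rel_of_chk certA_ok
  have cB : e * p ^ 3 = 1 := by simpa [L] using L.rel_of_chk certB_ok
  have cC : e * p ^ 2 = 1 := by simpa [L] using L.rel_of_chk certC_ok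
  have he1 : e = 1 := by rwa [cA, mul_one] at cC
  have hp1 : p = 1 := by rwa [he1, one_mul, pow_succ, cA, one_mul] at cB
  rw [he1, mul_one] at hta htc
  have hT : RelsT a b t := by
    refine ⟨by rw [pow_two]; exact ht2, ?_, ?_, ?_, ?_⟩
    · rw [← ev_c a b hb3, ← hC, mul_assoc, htc]; group
    · rw [mul_assoc, hta]; group
    · rw [← ev_g a b hb3]; exact hcube
    · rw [← ev_aW a b, ← ev_hW a b]
      exact hp_def.symm.trans hp1
  obtain ⟨τ, hτa, hτb, hτt⟩ := exists_hom S hT
  have hid : σ.comp τ = MonoidHom.id _ := PresentedGroup.ext fun i => by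
    cases i
    · show σ (τ (gn .x)) = _; rw [hτa, sa]; rfl
    · show σ (τ (gn .y)) = _; rw [hτb, sb]; rfl
    · show σ (τ (gn .t)) = _; rw [hτt, st]; rfl
  have hinv : ∀ x, x * (τ (σ x))⁻¹ ∈ σ.ker := fun x => by
    rw [MonoidHom.mem_ker, map_mul, map_inv, ← MonoidHom.comp_apply, hid, MonoidHom.id_apply,
      mul_inv_cancel]
  let r : Γ →* σ.ker :=
    { toFun := fun x => ⟨x * (τ (σ x))⁻¹, hinv x⟩
      map_one' := Subtype.ext (by simp)
      map_mul' := fun x y => Subtype.ext (by
        show x * y * (τ (σ (x * y)))⁻¹ = x * (τ (σ x))⁻¹ * (y * (τ (σ y))⁻¹)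
        rw [map_mul, map_mul, mul_inv_rev]
        have hk := (cen (MonoidHom.mem_ker.1 (hinv y)) (τ (σ x))⁻¹).eq
        calc x * y * ((τ (σ y))⁻¹ * (τ (σ x))⁻¹) = x * ((y * (τ (σ y))⁻¹) * (τ (σ x))⁻¹) := by group
          _ = _ := by rw [← hk]; group) }
  have hcr : commutator Γ ≤ r.ker := by
    rw [_root_.commutator_def, Subgroup.commutator_le]
    intro x _ y _
    rw [MonoidHom.mem_ker, map_commutatorElement, commutatorElement_eq_one_iff_mul_comm]
    exact Subtype.ext ((cen (MonoidHom.mem_ker.1 (r y).2) _).eq)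
  refine (Subgroup.eq_bot_iff_forall _).2 fun x hx => ?_
  have h := congrArg Subtype.val (MonoidHom.mem_ker.1 (hcr (hd hx)))
  change x * (τ (σ x))⁻¹ = 1 at h
  rwa [MonoidHom.mem_ker.1 hx, map_one, inv_one, mul_one] at h

/-- The multiplier is trivial. -/
theorem trivial_multiplier [Finite Cfsg.Spor.J4] [Finite M] (hM : Cfsg.HasCyclicSchurMultiplier M 1)
    (hev : ∀ u v : List Bool, pl u = pl v →
      ev (PresentedGroup.of (rels := rels7) false) (PresentedGroup.of true) u =
        ev (PresentedGroup.of false) (PresentedGroup.of true) v) :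
    Cfsg.HasCyclicSchurMultiplier Cfsg.Spor.J4 1 := by
  have hu : ∀ {H : Type} [Group H] (K : Subgroup H), K = ⊥ →
      ∃ e : Multiplicative (ZMod 1) →* K, Function.Bijective e := fun K hK => by
    subst hK
    exact ⟨1, fun _ _ _ => Subsingleton.elim (α := ZMod 1) _ _,
      fun k => ⟨1, (Subsingleton.elim (α := (⊥ : Subgroup _)) _ _)⟩⟩
  refine ⟨⟨Cfsg.Spor.J4, inferInstance, inferInstance, MonoidHom.id _,
    ⟨Function.surjective_id, ?_, ?_⟩, ?_⟩, fun Γ _ _ σ hσ => ?_⟩
  · rw [MonoidHom.ker_id]; exact bot_le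
  · rw [MonoidHom.ker_id]; exact bot_le
  · obtain ⟨e, he⟩ := hu (MonoidHom.id Cfsg.Spor.J4).ker MonoidHom.ker_id
    exact ⟨(MulEquiv.ofBijective e he).symm⟩
  · obtain ⟨e, he⟩ := hu σ.ker (ker_eq_bot hM hev σ hσ)
    exact ⟨e, he.surjective⟩

end CfsgLib.KnownB.J4Mult
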