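import Mathlib

/-!
A rewriting certificate format for the symmetric presentation of the fourth Janko group inside a
central extension: words are a leading element of `M₂₄` followed by conjugates of the involution `t`.
-/

set_option autoImplicit false

namespace CfsgLib.KnownB.J4Mult

/-- decoding of a binary word -/
def wd : ℕ → ℕ → List Bool
  | 0, _ => []
  | l + 1, n => (n % 2 == 1) :: wd l (n / 2)

/-- the permutation of `x` -/
def px : List ℕ :=
  [3, 6, 16, 0, 12, 8, 1, 14, 5, 18, 17, 20, 4, 15, 7, 13, 2, 10, 9, 23, 11, 22, 21, 19]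
/-- the permutation of `y` -/
def py : List ℕ :=
  [3, 20, 8, 5, 17, 0, 6, 7, 14, 4, 10, 11, 16, 1, 2, 12, 15, 9, 23, 19, 13, 21, 18, 22]

/-- the permutation of a word in `x` (`false`) and `y` (`true`) -/
def pl (w : List Bool) : List ℕ :=
  w.foldl (fun r a => r.map fun i => (if a then py else px).getD i 0) (List.range 24)

/-- word of an inverse -/
def invW (w : List Bool) : List Bool :=
  w.reverse.flatMap fun a => if a then [true, true] else [false]

/-- the two words centralising `t` up to the sign -/
def uexp (u : List Bool) : List Bool :=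
  u.flatMap fun a => if a then
    [true, false, true] ++ [false, true, true, false, true, true] ++ [false, true, false, true, false, true]
  else [false]

/-- conjugator of the cubic relation -/
def gW : List Bool := [true, false, true, true, false, true, false, true, true, false]
/-- the element of the last relation -/
def aW : List Bool :=
  [true, false, true, false, true, false, true, true, false, true, false, true, false, true,
    true, false, true, false, true, false, true]
/-- conjugator of the last relation -/
def hW : List Bool :=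
  [false, true, false, true, false, true, true, false, true, false, true, false, true, false, true,
    false, true, false, true, true]

/-- the three letters of an instance of the cubic relation -/
def lnKeys (n : List Bool) (rev : Bool) : List (List Bool) :=
  let l := [gW ++ [true, true] ++ n, gW ++ [true] ++ n, gW ++ n]
  if rev then l.reverse else l

/-- the four letters of an instance of the last relation -/
def qdKeys (n : List Bool) (rev : Bool) : List (List Bool) :=
  let l := [aW ++ n, hW ++ aW ++ n, n, hW ++ n]
  if rev then l.reverse else l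

/-- the element of `M₂₄` given by an instance of the last relation -/
def qdB (n : List Bool) (rev : Bool) : List Bool :=
  if rev then invW n ++ (aW ++ aW) ++ n else invW n ++ invW (aW ++ aW) ++ n

/-- one move -/
inductive Op
  | pr (i : ℕ) (k : List Bool)
  | rr (i : ℕ) (u k : List Bool)
  | cc (i : ℕ)
  | ln (i : ℕ) (n : List Bool) (rev : Bool)
  | qd (i : ℕ) (n : List Bool) (rev : Bool)

/-- state: leading word, letters, exponent of the sign, exponents of the defect -/
structure St where
  lead : List Bool
  ks : List (List Bool)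
  ne : ℕ
  pos : ℕ
  neg : ℕ

/-- apply one move -/
def St.step (s : St) : Op → Option St
  | .pr i k => some { s with ks := s.ks.take i ++ k :: k :: s.ks.drop i }
  | .rr i u k =>
    match s.ks.drop i with
    | a :: rest => if pl k == pl (uexp u ++ a) then
        some { s with ks := s.ks.take i ++ k :: rest, ne := s.ne + u.length } else none
    | _ => none
  | .cc i =>
    match s.ks.drop i with
    | a :: b :: rest => if pl a == pl b then some { s with ks := s.ks.take i ++ rest } else none
    | _ => none
  | .ln i n rev =>
    match s.ks.drop i with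
    | a :: b :: c :: rest => if [a, b, c].map pl == (lnKeys n rev).map pl then
        some { s with ks := s.ks.take i ++ rest } else none
    | _ => none
  | .qd i n rev =>
    match s.ks.drop i with
    | a :: b :: c :: d :: rest => if [a, b, c, d].map pl == (qdKeys n rev).map pl then
        some { lead := s.lead ++ qdB n rev
               ks := (s.ks.take i).map (· ++ qdB n rev) ++ rest
               ne := s.ne
               pos := if rev then s.pos else s.pos + 1
               neg := if rev then s.neg + 1 else s.neg } else none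
    | _ => none

/-- run a list of moves -/
def run : List Op → St → Option St
  | [], s => some s
  | o :: os, s => match s.step o with
    | some s' => run os s'
    | none => none

/-- a successful run returns to the empty word with the given exponents -/
def chk (ops : List Op) (ne pos neg : ℕ) : Bool :=
  match run ops ⟨[], [], 0, 0, 0⟩ with
  | some s => s.ks.isEmpty && pl s.lead == pl [] && s.ne % 2 == ne && s.pos == pos + s.neg - neg
      && Nat.ble neg s.neg
  | none => false

variable {E : Type*} [Group E]

/-- value of a word in `x` and `y` -/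
def ev (a b : E) (w : List Bool) : E := (w.map fun q => if q then b else a).prod

theorem ev_nil (a b : E) : ev a b [] = 1 := rfl

theorem ev_append (a b : E) (u v : List Bool) : ev a b (u ++ v) = ev a b u * ev a b v := by
  simp [ev]

theorem ev_invW_of (a b : E) (ha : a * a = 1) (hb : b * (b * b) = 1) :
    ∀ w : List Bool, ev a b (invW w) = (ev a b w)⁻¹
  | [] => by simp [invW, ev]
  | q :: w => by
    have e : invW (q :: w) = invW w ++ (if q then [true, true] else [false]) := by
      simp [invW, List.flatMap_append]
    rw [e, ev_append, ev_invW_of a b ha hb w, show q :: w = [q] ++ w from rfl, ev_append a b [q] w,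
      mul_inv_rev]
    congr 1
    cases q
    · simpa [ev] using (inv_eq_of_mul_eq_one_right ha).symm
    · simpa [ev] using (inv_eq_of_mul_eq_one_right hb).symm

/-- Data of a lift satisfying the relations up to central elements. -/
structure Lift (E : Type*) [Group E] where
  a : E
  b : E
  t : E
  se : E
  sp : E
  hev : ∀ u v : List Bool, pl u = pl v → ev a b u = ev a b v
  ht2 : t * t = 1
  hse : ∀ g, Commute g se
  hsp : ∀ g, Commute g sp
  hse2 : se * se = 1
  hta : t * a = a * t * se
  htc : t * ev a b (uexp [true]) = ev a b (uexp [true]) * t * se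
  hcube : (b * ((ev a b gW)⁻¹ * t * ev a b gW)) ^ 3 = 1
  hquad : (ev a b aW * t * ((ev a b hW)⁻¹ * t * ev a b hW)) ^ 2 = sp

namespace Lift

variable (L : Lift E)

/-- conjugate of `t` by a word -/
def tk (k : List Bool) : E := (ev L.a L.b k)⁻¹ * L.t * ev L.a L.b k

/-- product of conjugates -/
def pr (ks : List (List Bool)) : E := (ks.map L.tk).prod

theorem pr_nil : L.pr [] = 1 := rfl

theorem pr_cons (k : List Bool) (ks : List (List Bool)) : L.pr (k :: ks) = L.tk k * L.pr ks := by
  simp [pr]

theorem pr_append (l l' : List (List Bool)) : L.pr (l ++ l') = L.pr l * L.pr l' := by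
  simp [pr]

theorem tk_congr {k k' : List Bool} (h : pl k = pl k') : L.tk k = L.tk k' := by
  rw [tk, tk, L.hev _ _ h]

theorem pr_congr : ∀ {l l' : List (List Bool)}, l.map pl = l'.map pl → L.pr l = L.pr l'
  | [], [], _ => rfl
  | [], _ :: _, h => by simp at h
  | _ :: _, [], h => by simp at h
  | a :: l, b :: l', h => by
    simp only [List.map_cons, List.cons.injEq] at h
    rw [pr_cons, pr_cons, L.tk_congr h.1, pr_congr h.2]

theorem sq_a : L.a * L.a = 1 := by
  have := L.hev [false, false] [] (by decide +kernel)
  simpa [ev] using this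

theorem cube_b : L.b * (L.b * L.b) = 1 := by
  have := L.hev [true, true, true] [] (by decide +kernel)
  simpa [ev] using this

theorem ev_invW (w : List Bool) : ev L.a L.b (invW w) = (ev L.a L.b w)⁻¹ :=
  ev_invW_of L.a L.b L.sq_a L.cube_b w

theorem tk_tk (k : List Bool) : L.tk k * L.tk k = 1 := by
  rw [tk, show (ev L.a L.b k)⁻¹ * L.t * ev L.a L.b k * ((ev L.a L.b k)⁻¹ * L.t * ev L.a L.b k)
    = (ev L.a L.b k)⁻¹ * (L.t * L.t) * ev L.a L.b k by group, L.ht2, mul_one, inv_mul_cancel]

theorem inv_tk (k : List Bool) : (L.tk k)⁻¹ = L.tk k := inv_eq_of_mul_eq_one_right (L.tk_tk k)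

theorem pr_reverse : ∀ l : List (List Bool), L.pr l.reverse = (L.pr l)⁻¹
  | [] => by simp [pr]
  | k :: l => by
    rw [List.reverse_cons, pr_append, pr_reverse l, pr_cons, pr_cons, pr_nil, mul_one, mul_inv_rev, inv_tk]

theorem tk_shift (k n : List Bool) : L.tk (k ++ n) = (ev L.a L.b n)⁻¹ * L.tk k * ev L.a L.b n := by
  simp only [tk, ev_append]; group

theorem pr_shift : ∀ (l : List (List Bool)) (n : List Bool),
    L.pr l * ev L.a L.b n = ev L.a L.b n * L.pr (l.map (· ++ n))
  | [], n => by simp [pr]
  | k :: l, n => by
    rw [List.map_cons, pr_cons, pr_cons, mul_assoc, pr_shift l n, tk_shift]; group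

theorem t_u : ∀ u : List Bool,
    L.t * ev L.a L.b (uexp u) = ev L.a L.b (uexp u) * L.t * L.se ^ u.length
  | [] => by simp [uexp, ev]
  | q :: u => by
    have e : uexp (q :: u) = uexp [q] ++ uexp u := by simp [uexp]
    have hq : L.t * ev L.a L.b (uexp [q]) = ev L.a L.b (uexp [q]) * L.t * L.se := by
      cases q
      · simpa [uexp, ev] using L.hta
      · exact L.htc
    rw [e, ev_append, ← mul_assoc, hq, List.length_cons, pow_succ]
    rw [mul_assoc _ L.se, ← (L.hse _).eq, ← mul_assoc, mul_assoc (ev L.a L.b (uexp [q])) L.t,
      t_u u]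
    simp only [mul_assoc]

theorem tk_rr {a k u : List Bool} (h : pl k = pl (uexp u ++ a)) :
    L.tk a = L.tk k * (L.se ^ u.length)⁻¹ := by
  rw [L.tk_congr h, tk, tk, ev_append, mul_inv_rev]
  set U := ev L.a L.b (uexp u)
  set K := ev L.a L.b a
  have hc : Commute K (L.se ^ u.length)⁻¹ := ((L.hse K).pow_right _).inv_right
  have hu : U⁻¹ * L.t * U = L.t * L.se ^ u.length := by
    rw [mul_assoc U⁻¹, L.t_u u, ← mul_assoc, ← mul_assoc, inv_mul_cancel, one_mul]
  rw [show K⁻¹ * U⁻¹ * L.t * (U * K) = K⁻¹ * (U⁻¹ * L.t * U) * K by group, hu,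
    mul_assoc _ K, hc.eq]
  group

theorem pr_ln (n : List Bool) : L.pr (lnKeys n false) = 1 := by
  have hy3 : L.b ^ 3 = 1 := by rw [pow_three]; exact L.cube_b
  have e : ∀ k, L.tk (gW ++ k ++ n)
      = (ev L.a L.b n)⁻¹ * ((ev L.a L.b k)⁻¹ * L.tk gW * ev L.a L.b k) * ev L.a L.b n := fun k => by
    rw [tk_shift, tk_shift]
  show L.pr [gW ++ [true, true] ++ n, gW ++ [true] ++ n, gW ++ n] = 1
  rw [pr_cons, pr_cons, pr_cons, pr_nil, mul_one, e, e, tk_shift]
  have hb : ev L.a L.b [true] = L.b := by simp [ev]
  have hbb : ev L.a L.b [true, true] = L.b * L.b := by simp [ev]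
  rw [hb, hbb]
  have h3 : (L.b * L.tk gW) ^ 3 = 1 := L.hcube
  calc (ev L.a L.b n)⁻¹ * ((L.b * L.b)⁻¹ * L.tk gW * (L.b * L.b)) * ev L.a L.b n
        * ((ev L.a L.b n)⁻¹ * (L.b⁻¹ * L.tk gW * L.b) * ev L.a L.b n
          * ((ev L.a L.b n)⁻¹ * L.tk gW * ev L.a L.b n))
      = (ev L.a L.b n)⁻¹ * ((L.b ^ 3)⁻¹ * (L.b * L.tk gW) ^ 3) * ev L.a L.b n := by
        simp only [pow_three]; group
    _ = 1 := by rw [hy3, h3]; group

theorem pr_ln' (n : List Bool) (rev : Bool) : L.pr (lnKeys n rev) = 1 := by
  cases rev
  · exact L.pr_ln n
  · have : lnKeys n true = (lnKeys n false).reverse := rfl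
    rw [this, pr_reverse, pr_ln, inv_one]

theorem pr_qd (n : List Bool) : L.pr (qdKeys n false) = ev L.a L.b (qdB n false) * L.sp := by
  show L.pr [aW ++ n, hW ++ aW ++ n, n, hW ++ n] = _
  have hn : L.tk n = (ev L.a L.b n)⁻¹ * L.t * ev L.a L.b n := rfl
  rw [pr_cons, pr_cons, pr_cons, pr_cons, pr_nil, mul_one, L.tk_shift aW, L.tk_shift (hW ++ aW),
    L.tk_shift hW n, hn, L.tk_shift hW aW, show qdB n false = invW n ++ invW (aW ++ aW) ++ n from rfl, ev_append, ev_append,
    ev_invW, ev_invW, ev_append]
  set N := ev L.a L.b n
  set A := ev L.a L.b aW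
  have hA : L.tk aW = A⁻¹ * L.t * A := rfl
  have hq : (A * L.t * L.tk hW) ^ 2 = L.sp := L.hquad
  rw [hA]
  calc N⁻¹ * (A⁻¹ * L.t * A) * N * (N⁻¹ * (A⁻¹ * L.tk hW * A) * N * (N⁻¹ * L.t * N *
        (N⁻¹ * L.tk hW * N)))
      = N⁻¹ * ((A * A)⁻¹ * (A * L.t * L.tk hW) ^ 2) * N := by rw [pow_two]; group
    _ = N⁻¹ * ((A * A)⁻¹ * L.sp) * N := by rw [hq]
    _ = N⁻¹ * (A * A)⁻¹ * N * L.sp := by
      rw [← mul_assoc N⁻¹, mul_assoc _ L.sp, ← (L.hsp N).eq, ← mul_assoc]

theorem pr_qd' (n : List Bool) : L.pr (qdKeys n true) = ev L.a L.b (qdB n true) * L.sp⁻¹ := by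
  have e : qdKeys n true = (qdKeys n false).reverse := rfl
  rw [e, pr_reverse, pr_qd, mul_inv_rev, ← ev_invW, ← ((L.hsp _).inv_right).eq]
  congr 1
  show _ = ev L.a L.b (invW n ++ (aW ++ aW) ++ n)
  simp only [ev_invW, qdB, Bool.false_eq_true, if_false, ev_append, mul_inv_rev, inv_inv, mul_assoc]

/-- value of a state -/
def val (s : St) : E :=
  ev L.a L.b s.lead * L.pr s.ks * L.se ^ s.ne * (L.sp ^ s.pos * (L.sp⁻¹) ^ s.neg)

theorem step_val {s s' : St} {o : Op} (h : s.step o = some s') : L.val s' = L.val s := by
  cases o with
  | pr i k =>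
    simp only [St.step, Option.some.injEq] at h
    subst h
    have e : L.pr (s.ks.take i ++ k :: k :: s.ks.drop i) = L.pr s.ks := by
      rw [pr_append, pr_cons, pr_cons, ← mul_assoc (L.tk k), tk_tk, one_mul, ← pr_append,
        List.take_append_drop]
    simp only [val, e]
  | rr i u k =>
    simp only [St.step] at h
    split at h
    · rename_i a rest hd
      split at h
      · rename_i hpl
        cases h
        have e : L.pr s.ks = L.pr (s.ks.take i ++ a :: rest) := by rw [← hd, List.take_append_drop]
        have ha := L.tk_rr (eq_of_beq hpl)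
        simp only [val, e, pr_append, pr_cons, ha, pow_add]
        have hc : Commute (L.pr rest) (L.se ^ u.length)⁻¹ := ((L.hse _).pow_right _).inv_right
        have hc' : Commute (L.se ^ s.ne) (L.se ^ u.length)⁻¹ := ((L.hse _).pow_right _).inv_right
        symm
        calc ev L.a L.b s.lead * (L.pr (s.ks.take i) * (L.tk k * (L.se ^ u.length)⁻¹ * L.pr rest))
              * L.se ^ s.ne * (L.sp ^ s.pos * L.sp⁻¹ ^ s.neg)
            = ev L.a L.b s.lead * (L.pr (s.ks.take i) * (L.tk k * L.pr rest))
              * ((L.se ^ u.length)⁻¹ * L.se ^ s.ne) * (L.sp ^ s.pos * L.sp⁻¹ ^ s.neg) := by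
              rw [mul_assoc (L.tk k), ← hc.eq]; group
          _ = _ := by
              congr 2
              rw [← hc'.eq, inv_eq_of_mul_eq_one_right]
              rw [← pow_add, ← two_mul, pow_mul, pow_two, L.hse2, one_pow]
      · simp at h
    · simp at h
  | cc i =>
    simp only [St.step] at h
    split at h
    · rename_i a b rest hd
      split at h
      · rename_i hpl
        cases h
        have e : L.pr s.ks = L.pr (s.ks.take i ++ a :: b :: rest) := by rw [← hd, List.take_append_drop]
        have e' : L.tk b = L.tk a := (L.tk_congr (eq_of_beq hpl)).symm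
        simp only [val, e, pr_append, pr_cons, e']
        rw [← mul_assoc (L.tk a), tk_tk, one_mul]
      · simp at h
    · simp at h
  | ln i n rev =>
    simp only [St.step] at h
    split at h
    · rename_i a b c rest hd
      split at h
      · rename_i hpl
        cases h
        have e : L.pr s.ks = L.pr (s.ks.take i ++ ([a, b, c] ++ rest)) := by
          rw [show [a, b, c] ++ rest = a :: b :: c :: rest from rfl, ← hd, List.take_append_drop]
        simp only [val, e, pr_append, L.pr_congr (eq_of_beq hpl), pr_ln', one_mul]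
      · simp at h
    · simp at h
  | qd i n rev =>
    simp only [St.step] at h
    split at h
    · rename_i a b c d rest hd
      split at h
      · rename_i hpl
        cases h
        have e : L.pr s.ks = L.pr (s.ks.take i ++ ([a, b, c, d] ++ rest)) := by
          rw [show [a, b, c, d] ++ rest = a :: b :: c :: d :: rest from rfl, ← hd,
            List.take_append_drop]
        simp only [val, e, pr_append, L.pr_congr (eq_of_beq hpl), ev_append]
        cases rev
        · rw [L.pr_qd n]
          simp only [Bool.false_eq_true, if_false, pow_succ]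
          rw [← mul_assoc (L.pr _) (ev L.a L.b (qdB n false) * L.sp),
            ← mul_assoc (L.pr _) (ev L.a L.b (qdB n false)), L.pr_shift]
          have h3 := fun g k : E => (L.hsp g).left_comm k
          simp only [mul_assoc]
          congr 3
          rw [h3 (L.sp ^ s.pos), h3 (L.se ^ s.ne), h3 (L.pr rest)]
        · rw [L.pr_qd' n]
          simp only [if_true, pow_succ]
          rw [← mul_assoc (L.pr _) (ev L.a L.b (qdB n true) * L.sp⁻¹),
            ← mul_assoc (L.pr _) (ev L.a L.b (qdB n true)), L.pr_shift]
          have h4 := fun g : E => (L.hsp g).inv_right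
          simp only [mul_assoc]
          congr 3
          rw [(h4 (L.sp⁻¹ ^ s.neg)).eq, (h4 (L.sp ^ s.pos)).left_comm, (h4 (L.se ^ s.ne)).left_comm,
            (h4 (L.pr rest)).left_comm]
      · simp at h
    · simp at h

theorem run_val : ∀ (os : List Op) {s s' : St}, run os s = some s' → L.val s' = L.val s
  | [], s, s', h => by simp only [run, Option.some.injEq] at h; rw [h]
  | o :: os, s, s', h => by
    simp only [run] at h
    split at h
    · rename_i s1 h1
      rw [run_val os h, L.step_val h1]
    · simp at h

theorem rel_of_chk {ops : List Op} {ne pos : ℕ} (h : chk ops ne pos 0 = true) :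
    L.se ^ ne * L.sp ^ pos = 1 := by
  rw [chk] at h
  split at h
  · rename_i s hs
    simp only [Bool.and_eq_true, beq_iff_eq, List.isEmpty_iff, Nat.sub_zero] at h
    obtain ⟨⟨⟨⟨hk, hl⟩, he⟩, hp⟩, -⟩ := h
    have := L.run_val ops hs
    simp only [val, hk, pr_nil, L.hev _ _ hl, ev_nil, one_mul, pow_zero, mul_one] at this
    rw [hp, pow_add, mul_assoc, inv_pow, mul_inv_cancel, mul_one] at this
    rwa [← Nat.mod_add_div s.ne 2, pow_add, pow_mul, pow_two, L.hse2, one_pow, mul_one, he] at this
  · simp at h

end Lift

end CfsgLib.KnownB.J4Mult
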